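import Groth.Agent.Sga3B.CentRep
import Groth.Agent.Sga3B.RedIdComp
import Groth.Agent.Sga3B.RG.BrPts
import Groth.Agent.Sga3B.Pts

/-!
# The reduced identity component of the intersection of two normal subgroups (node C0 of S14753)
-/

set_option autoImplicit false
universe u
open CategoryTheory CategoryTheory.Limits MonoidalCategory CartesianMonoidalCategory MonObj GrpObj AlgebraicGeometry

namespace K968.Inter

open Groth.Agent.Books.AlgPts Groth.Agent.Books.AlgPtsGrp Groth.Agent

open TopologicalSpace in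
theorem finite_connectedComponents {T : Type*} [TopologicalSpace T] [NoetherianSpace T] :
    Finite (ConnectedComponents T) := by
  have hf : Finite (irreducibleComponents T) := NoetherianSpace.finite_irreducibleComponents.to_subtype
  have hne : ∀ Z : irreducibleComponents T, (Z : Set T).Nonempty := fun Z => Z.2.1.nonempty
  refine Finite.of_surjective (fun Z : irreducibleComponents T => (ConnectedComponents.mk (hne Z).some)) ?_
  intro c
  obtain ⟨x, rfl⟩ := ConnectedComponents.surjective_coe c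
  let Z : irreducibleComponents T := ⟨irreducibleComponent x, irreducibleComponent_mem_irreducibleComponents x⟩
  refine ⟨Z, ?_⟩
  have h1 : (hne Z).some ∈ irreducibleComponent x := (hne Z).some_mem
  have h2 : irreducibleComponent x ⊆ connectedComponent x :=
    irreducibleComponent_subset_connectedComponent
  exact ConnectedComponents.coe_eq_coe'.mpr (h2 h1)

/-- The reduced identity component of a closed subgroup which is stable under conjugation is normal. -/
theorem isNormalHom_of_redIdComp {k : Type u} [Field k] [IsAlgClosed k]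
    {E M G : Over (Spec (CommRingCat.of k))} [GrpObj E] [GrpObj M] [GrpObj G] [Smooth G.hom]
    (m : M ⟶ G) [IsMonHom m] [IsClosedImmersion m.left] (hn : AlgGrp.IsNormalHom m)
    (u : E ⟶ M) [IsMonHom u] [IsClosedImmersion u.left] [Smooth E.hom] [ConnectedSpace E.left]
    (hu : Set.range u.left = connectedComponent (pt η[M])) : AlgGrp.IsNormalHom (u ≫ m) := by
  have hmm : Mono m := mono_of_isClosedImmersion m
  have hcl : IsClosedImmersion (u ≫ m).left := by rw [Over.comp_left]; infer_instance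
  have hEred : IsReduced E.left := Books.AlgPtsSmooth.isReduced_of_smooth E
  refine Sga3B.RG.BrPts.isNormalHom_of_points (u ≫ m) (fun g n => ?_)
  obtain ⟨c1, hc1⟩ := hn E (toUnit E ≫ g) u
  have e1 : ∀ {T : Over (Spec (CommRingCat.of k))} (z : T ⟶ E), z ≫ toUnit E ≫ g = toUnit T ≫ g := fun z => by
    rw [← Category.assoc, toUnit_unique (z ≫ toUnit E) (toUnit _)]
  have h2 : η[E] ≫ c1 = η[M] := by
    rw [← cancel_mono m, Category.assoc, ← hc1, MonObj.comp_mul, MonObj.comp_mul, GrpObj.comp_inv, e1,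
      ← Category.assoc, IsMonHom.one_hom, IsMonHom.one_hom, one_eq_one, _root_.mul_one, mul_inv_cancel]
  obtain ⟨c2, hc2⟩ := exists_lift u c1 (by
    rw [hu, ← h2, pt_comp]
    exact (isPreconnected_range c1.left.continuous).subset_connectedComponent ⟨_, rfl⟩)
  refine ⟨n ≫ c2, ?_⟩
  have h3 := congr(n ≫ $hc1)
  rw [MonObj.comp_mul, MonObj.comp_mul, GrpObj.comp_inv, e1] at h3
  rw [toUnit_unique (toUnit _) (𝟙 _), Category.id_comp] at h3
  rw [h3, ← hc2]
  simp only [Category.assoc]

/-- A rational point in the component of another one differs from it by a point of the reduced identity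
component. -/
theorem exists_of_component {k : Type u} [Field k] [IsAlgClosed k]
    {E M : Over (Spec (CommRingCat.of k))} [GrpObj M] [LocallyOfFiniteType M.hom]
    [LocallyOfFiniteType E.hom] (u : E ⟶ M) (hu : Set.range u.left = connectedComponent (pt η[M]))
    (v w : 𝟙_ (Over (Spec (CommRingCat.of k))) ⟶ M) (h : pt w ∈ connectedComponent (pt v)) :
    ∃ z : 𝟙_ (Over (Spec (CommRingCat.of k))) ⟶ E, w = v * (z ≫ u) := by
  let τ : M ⟶ M := (toUnit M ≫ v⁻¹) * 𝟙 M
  have hτ : ∀ x : 𝟙_ (Over (Spec (CommRingCat.of k))) ⟶ M, x ≫ τ = v⁻¹ * x := fun x => by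
    simp only [τ, MonObj.comp_mul, Category.comp_id]
    rw [← Category.assoc, toUnit_unique (x ≫ toUnit M) (𝟙 _), Category.id_comp]
  have h1 : pt (v⁻¹ * w) ∈ Set.range u.left := by
    rw [hu, one_eq_one, ← inv_mul_cancel v, ← hτ, ← hτ, pt_comp, pt_comp]
    exact τ.left.continuous.image_connectedComponent_subset _ ⟨_, h, rfl⟩
  obtain ⟨z, hz⟩ := exists_comp_eq_of_pt_mem_range u (v⁻¹ * w) h1
  exact ⟨z, by rw [hz, mul_inv_cancel_left]⟩

variable (k : Type u) [Field k] [IsAlgClosed k]

/-- C0. the reduced identity component of the intersection of two normal subgroups -/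
theorem exists_inter
    (N K G : Over (Spec (CommRingCat.of k))) [GrpObj N] [GrpObj K] [GrpObj G]
    [Smooth G.hom] [QuasiCompact G.hom]
    (i : N ⟶ G) [IsMonHom i] [IsClosedImmersion i.left] (hi : AlgGrp.IsNormalHom i)
    (j : K ⟶ G) [IsMonHom j] [IsClosedImmersion j.left] (hj : AlgGrp.IsNormalHom j) :
    ∃ (E : Over (Spec (CommRingCat.of k))) (_ : GrpObj E) (a : E ⟶ N) (b : E ⟶ K), IsMonHom a ∧ IsMonHom b ∧
      a ≫ i = b ≫ j ∧ IsClosedImmersion a.left ∧ IsClosedImmersion b.left ∧ Smooth E.hom ∧ ConnectedSpace ↥E.left ∧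
      AlgGrp.IsNormalHom (a ≫ i) ∧
      ∃ F : Set (𝟙_ (Over (Spec (CommRingCat.of k))) ⟶ G), F.Finite ∧
        ∀ (x : 𝟙_ (Over (Spec (CommRingCat.of k))) ⟶ N) (y : 𝟙_ (Over (Spec (CommRingCat.of k))) ⟶ K),
          x ≫ i = y ≫ j → ∃ f ∈ F, ∃ z : 𝟙_ (Over (Spec (CommRingCat.of k))) ⟶ E, x ≫ i = f * (z ≫ a ≫ i) := by
  have hmi : Mono i := mono_of_isClosedImmersion i
  have hmj : Mono j := mono_of_isClosedImmersion j
  obtain ⟨M, m, hm, hmf, -⟩ := Sga3B.CentRep.exists_inter i j
  have hmm : Mono m := mono_of_isClosedImmersion m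
  obtain ⟨_, hmg⟩ := Sga3B.CentRep.exists_grpObj m (fun T =>
      { carrier := {g | (∃ a : T ⟶ N, a ≫ i = g) ∧ (∃ a : T ⟶ K, a ≫ j = g)}
        mul_mem' := by
          rintro g g' ⟨⟨a, rfl⟩, b, hb⟩ ⟨⟨a', rfl⟩, b', hb'⟩
          exact ⟨⟨a * a', MonObj.mul_comp _ _ _⟩, b * b', by rw [MonObj.mul_comp, hb, hb']⟩
        one_mem' := ⟨⟨1, MonObj.one_comp _⟩, 1, MonObj.one_comp _⟩
        inv_mem' := by
          rintro g ⟨⟨a, rfl⟩, b, hb⟩
          exact ⟨⟨a⁻¹, GrpObj.inv_comp _ _⟩, b⁻¹, by rw [GrpObj.inv_comp, hb]⟩ }) (fun T g => hmf T g)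
  obtain ⟨⟨p, hp⟩, ⟨q, hq⟩⟩ := (hmf M m).mp ⟨𝟙 M, Category.id_comp _⟩
  have hpm : IsMonHom p := Sga3B.Pts.isMonHom_of_points p (fun T x y => by
    rw [← cancel_mono i, Category.assoc, hp, MonObj.mul_comp x y m, MonObj.mul_comp (x ≫ p) (y ≫ p) i,
      Category.assoc, Category.assoc, hp])
  have hqm : IsMonHom q := Sga3B.Pts.isMonHom_of_points q (fun T x y => by
    rw [← cancel_mono j, Category.assoc, hq, MonObj.mul_comp x y m, MonObj.mul_comp (x ≫ q) (y ≫ q) j,
      Category.assoc, Category.assoc, hq])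
  have hmn : AlgGrp.IsNormalHom m := by
    intro T g n
    obtain ⟨n1, hn1⟩ := hi T g (n ≫ p)
    obtain ⟨n2, hn2⟩ := hj T g (n ≫ q)
    rw [Category.assoc, hp] at hn1
    rw [Category.assoc, hq] at hn2
    obtain ⟨n', hn'⟩ := (hmf T (g * (n ≫ m) * g⁻¹)).mpr ⟨⟨n1, hn1.symm⟩, ⟨n2, hn2.symm⟩⟩
    exact ⟨n', hn'.symm⟩
  have hMft : LocallyOfFiniteType M.hom := by rw [← Over.w m]; infer_instance
  have hMqc : QuasiCompact M.hom := by rw [← Over.w m]; infer_instance
  obtain ⟨E, _, u, hu1, hu2, hu3, hu4, hu5⟩ := Sga3B.RedIdComp.exists_redIdComp M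
  have hEft : LocallyOfFiniteType E.hom := by rw [← Over.w u]; infer_instance
  have hcl : IsClosedImmersion (u ≫ m).left := by rw [Over.comp_left]; infer_instance
  have hpi : (u ≫ p) ≫ i = u ≫ m := by rw [Category.assoc, hp]
  have hqj : (u ≫ q) ≫ j = u ≫ m := by rw [Category.assoc, hq]
  refine ⟨E, inferInstance, u ≫ p, u ≫ q, inferInstance, inferInstance, by rw [hpi, hqj], ?_, ?_, hu3, hu4, ?_, ?_⟩
  · have h1 : IsClosedImmersion ((u ≫ p).left ≫ i.left) := by rw [← Over.comp_left, hpi]; exact hcl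
    exact IsClosedImmersion.of_comp (u ≫ p).left i.left
  · have h1 : IsClosedImmersion ((u ≫ q).left ≫ j.left) := by rw [← Over.comp_left, hqj]; exact hcl
    exact IsClosedImmersion.of_comp (u ≫ q).left j.left
  · rw [hpi]
    exact isNormalHom_of_redIdComp m hmn u hu5
  · have hln : IsLocallyNoetherian M.left := by
      have : IsNoetherianRing (CommRingCat.of k) := inferInstanceAs (IsNoetherianRing k)
      exact LocallyOfFiniteType.isLocallyNoetherian M.hom
    have hcs : CompactSpace M.left := QuasiCompact.compactSpace_of_compactSpace M.hom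
    have hN0 : IsNoetherian M.left := { }
    have hfin : Finite (ConnectedComponents M.left) := finite_connectedComponents
    let f : (𝟙_ (Over (Spec (CommRingCat.of k))) ⟶ M) → ConnectedComponents M.left :=
      fun x => ConnectedComponents.mk (pt x)
    refine ⟨Set.range (fun s : Set.range f => s.2.choose ≫ m), Set.finite_range _, fun x y hxy => ?_⟩
    obtain ⟨w, hw⟩ := (hmf _ (x ≫ i)).mpr ⟨⟨x, rfl⟩, ⟨y, hxy.symm⟩⟩
    let s : Set.range f := ⟨f w, w, rfl⟩
    have hs : f s.2.choose = f w := s.2.choose_spec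
    obtain ⟨z, hz⟩ := exists_of_component u hu5 s.2.choose w (by
      rw [← connectedComponent_eq_iff_mem]
      exact (ConnectedComponents.coe_eq_coe.mp hs).symm)
    refine ⟨s.2.choose ≫ m, ⟨s, rfl⟩, z, ?_⟩
    rw [← hw, hpi]
    conv_lhs => rw [hz]
    rw [MonObj.mul_comp, Category.assoc]

end K968.Inter
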